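import Groth.Agent.H17.HS.PL
import Groth.Agent.S3406

/-!
# Hilbert–Samuel functions: existence of the polynomial, comparison lemmas, degree = dimension
-/

set_option autoImplicit false

namespace Groth.Agent.H17.HS

open Polynomial
open scoped Pointwise

universe u
variable {A : Type u} [CommRing A] [IsNoetherianRing A]

/-- The Samuel function `n ↦ ℓ(N / Iⁿ N)` (as a natural number; junk value `0` if infinite). -/
noncomputable def samuel (I : Ideal A) (N : Type*) [AddCommGroup N] [Module A N] (n : ℕ) : ℕ :=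
  cn (I ^ n • (⊤ : Submodule A N))

/-- `P` eventually computes the Samuel function. -/
def HasSamuelPoly (I : Ideal A) (N : Type*) [AddCommGroup N] [Module A N] (P : ℚ[X]) : Prop :=
  ∃ K, ∀ n, K ≤ n → (samuel I N n : ℚ) = P.eval (n : ℚ)

/-- Hilbert–Samuel: for an ideal generated by `t` elements, the Samuel function is eventually a
polynomial of degree at most `t`. -/
theorem exists_samuelPoly {N : Type*} [AddCommGroup N] [Module A N] [Module.Finite A N] {t : ℕ}
    (x : Fin t → A)
    (hfin : ∀ n, colen (Ideal.span (Set.range x) ^ n • (⊤ : Submodule A N)) ≠ ⊤) :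
    ∃ P : ℚ[X], (∀ m, t + 1 ≤ m → P.coeff m = 0) ∧
      HasSamuelPoly (Ideal.span (Set.range x)) N P := by
  have hstep : ∀ n, Ideal.span (Set.range x) • (Ideal.span (Set.range x) ^ n •
      (⊤ : Submodule A N)) = Ideal.span (Set.range x) ^ (n + 1) • (⊤ : Submodule A N) := by
    intro n
    rw [← mul_smul, ← pow_succ']
  obtain ⟨P₀, hP₀, K, hK⟩ := polyLike_pairs x t le_rfl
    (fun n => Ideal.span (Set.range x) ^ n • (⊤ : Submodule A N))
    (fun n => Ideal.span (Set.range x) ^ (n + 1) • (⊤ : Submodule A N))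
    (fun n => Submodule.smul_mono_left (Ideal.pow_le_pow_right (Nat.le_succ n)))
    (fun n => le_rfl)
    (fun i n => by
      show _ ≤ Ideal.span (Set.range x) ^ (n + 1) • (⊤ : Submodule A N)
      rw [← hstep n]
      exact map_lsmul_le_smul x i _)
    (fun i n => by
      show _ ≤ Ideal.span (Set.range x) ^ (n + 1 + 1) • (⊤ : Submodule A N)
      rw [← hstep (n + 1)]
      exact map_lsmul_le_smul x i _)
    (fun i hi n => absurd i.2 (not_lt.mpr hi))
    ⟨(Ideal.span (Set.range x)).stableFiltration ⊤,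
      (Ideal.span (Set.range x)).stableFiltration_stable ⊤, fun n => le_rfl⟩
    (fun n => hfin (n + 1))
  obtain ⟨P, hP, hPn⟩ := exists_poly_of_fwdDiff t
    (fun n => (samuel (Ideal.span (Set.range x)) N n : ℚ)) P₀ hP₀ K (fun n hn => hK n hn)
  exact ⟨P, hP, K, hPn⟩

/-- If `Supp N ∩ V(I)` has dimension `≤ 0`, all `N / Iⁿ N` have finite length. -/
theorem colen_pow_smul_top_ne_top (I : Ideal A) (N : Type u) [AddCommGroup N] [Module A N]
    [Module.Finite A N]
    (h : Order.krullDim ↥(Module.support A N ∩ PrimeSpectrum.zeroLocus (I : Set A)) ≤ 0) (n : ℕ) :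
    colen (I ^ n • (⊤ : Submodule A N)) ≠ ⊤ := by
  unfold colen
  rw [Module.length_ne_top_iff, Groth.Agent.S3406.isFiniteLength_iff_supportDim_le_zero,
    Module.supportDim, Module.support_quotient]
  refine le_trans ?_ h
  have hsub : Module.support A N ∩ PrimeSpectrum.zeroLocus ((I ^ n : Ideal A) : Set A) ⊆
      Module.support A N ∩ PrimeSpectrum.zeroLocus (I : Set A) := by
    rintro P ⟨h1, h2⟩
    refine ⟨h1, ?_⟩
    have h2' : I ^ n ≤ P.asIdeal := (PrimeSpectrum.mem_zeroLocus _ _).mp h2
    have h3 : I ≤ P.asIdeal := Ideal.IsPrime.le_of_pow_le (hP := P.2) h2'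
    exact (PrimeSpectrum.mem_zeroLocus _ _).mpr h3
  exact Order.krullDim_le_of_strictMono (Set.inclusion hsub) (fun a b hab => hab)

theorem krullDim_support_inter_zeroLocus_jacobson [Finite (MaximalSpectrum A)] (N : Type u)
    [AddCommGroup N] [Module A N] :
    Order.krullDim ↥(Module.support A N ∩
      PrimeSpectrum.zeroLocus (Ring.jacobson A : Set A)) ≤ 0 := by
  apply Groth.Agent.S3406.krullDim_le_zero_of_forall_isMaximal
  rintro P ⟨-, hP⟩
  exact Groth.Agent.S3406.isMaximal_of_jacobson_le A P.2 ((PrimeSpectrum.mem_zeroLocus _ _).mp hP)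

theorem colen_jacobson_pow_ne_top [Finite (MaximalSpectrum A)] (N : Type u)
    [AddCommGroup N] [Module A N] [Module.Finite A N] (n : ℕ) :
    colen (Ring.jacobson A ^ n • (⊤ : Submodule A N)) ≠ ⊤ :=
  colen_pow_smul_top_ne_top (Ring.jacobson A) N (krullDim_support_inter_zeroLocus_jacobson N) n

theorem exists_samuelPoly_jacobson [Finite (MaximalSpectrum A)] (N : Type u) [AddCommGroup N]
    [Module A N] [Module.Finite A N] :
    ∃ P : ℚ[X], HasSamuelPoly (Ring.jacobson A) N P := by
  obtain ⟨t, xs, hspan⟩ := Submodule.fg_iff_exists_fin_generating_family.mp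
    (IsNoetherian.noetherian (Ring.jacobson A))
  have hspan' : Ideal.span (Set.range xs) = Ring.jacobson A := hspan
  have hfin := colen_jacobson_pow_ne_top (A := A) N
  rw [← hspan'] at hfin ⊢
  obtain ⟨P, -, hP⟩ := exists_samuelPoly (N := N) xs hfin
  exact ⟨P, hP⟩

/-- Artin–Rees in the form needed for comparison of Samuel functions. -/
theorem exists_comap_pow_smul_top_le (I : Ideal A) {N' N : Type*} [AddCommGroup N'] [Module A N']
    [AddCommGroup N] [Module A N] [Module.Finite A N] (j : N' →ₗ[A] N)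
    (hj : Function.Injective j) :
    ∃ c, ∀ n, c ≤ n →
      (I ^ n • (⊤ : Submodule A N)).comap j ≤ I ^ (n - c) • (⊤ : Submodule A N') := by
  obtain ⟨c, hc⟩ := Ideal.exists_pow_inf_eq_pow_smul I (LinearMap.range j)
  refine ⟨c, fun n hn y hy => ?_⟩
  have h1 : j y ∈ I ^ n • (⊤ : Submodule A N) ⊓ LinearMap.range j :=
    ⟨hy, LinearMap.mem_range_self j y⟩
  rw [hc n hn] at h1
  have h2 : I ^ (n - c) • (I ^ c • (⊤ : Submodule A N) ⊓ LinearMap.range j) ≤
      (I ^ (n - c) • (⊤ : Submodule A N')).map j := by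
    rw [Submodule.map_smul'', Submodule.map_top]
    exact Submodule.smul_mono le_rfl inf_le_right
  obtain ⟨z, hz, hzy⟩ := h2 h1
  rwa [← hj hzy]

/-- A submodule has a smaller Samuel function up to a shift. -/
theorem samuel_le_of_injective (I : Ideal A) {N' N : Type*} [AddCommGroup N'] [Module A N']
    [AddCommGroup N] [Module A N] [Module.Finite A N] (j : N' →ₗ[A] N)
    (hj : Function.Injective j)
    (hfin : ∀ n, colen (I ^ n • (⊤ : Submodule A N)) ≠ ⊤) :
    ∃ c, ∀ n, c ≤ n → samuel I N' (n - c) ≤ samuel I N n := by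
  obtain ⟨c, hc⟩ := exists_comap_pow_smul_top_le I j hj
  refine ⟨c, fun n hn => ?_⟩
  have h1 : colen (I ^ (n - c) • (⊤ : Submodule A N')) ≤ colen (I ^ n • (⊤ : Submodule A N)) :=
    (colen_anti (hc n hn)).trans (colen_comap_le j _)
  unfold samuel cn
  exact ENat.toNat_le_toNat h1 (hfin n)

/-- For a regular element, the Samuel function of the quotient is bounded by a difference. -/
theorem samuel_quotSMulTop_add_le (I : Ideal A) {N : Type*} [AddCommGroup N] [Module A N]
    [Module.Finite A N] (x : A) (hx : IsSMulRegular N x)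
    (hfin : ∀ n, colen (I ^ n • (⊤ : Submodule A N)) ≠ ⊤) :
    ∃ c, ∀ n, c ≤ n → samuel I (QuotSMulTop x N) n + samuel I N (n - c) ≤ samuel I N n := by
  set φ : N →ₗ[A] N := LinearMap.lsmul A N x with hφ
  have hφinj : Function.Injective φ := fun a b hab => hx hab
  obtain ⟨c, hc⟩ := exists_comap_pow_smul_top_le I φ hφinj
  have hrange : LinearMap.range φ = x • (⊤ : Submodule A N) := by
    ext m
    rw [Submodule.mem_smul_pointwise_iff_exists]
    constructor
    · rintro ⟨b, rfl⟩
      exact ⟨b, trivial, rfl⟩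
    · rintro ⟨b, -, rfl⟩
      exact ⟨b, rfl⟩
  refine ⟨c, fun n hn => ?_⟩
  have h1 := colen_eq_add φ (I ^ n • (⊤ : Submodule A N))
  have h2 : colen (I ^ (n - c) • (⊤ : Submodule A N)) ≤
      colen ((I ^ n • (⊤ : Submodule A N)).comap φ) := colen_anti (hc n hn)
  have h3 : colen (I ^ n • (⊤ : Submodule A (QuotSMulTop x N))) =
      colen (I ^ n • (⊤ : Submodule A N) ⊔ LinearMap.range φ) := by
    rw [hrange, sup_comm]
    exact colen_smul_top_quotient (I ^ n) (x • (⊤ : Submodule A N))
  have h4 : colen (I ^ n • (⊤ : Submodule A (QuotSMulTop x N))) +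
      colen (I ^ (n - c) • (⊤ : Submodule A N)) ≤ colen (I ^ n • (⊤ : Submodule A N)) := by
    calc colen (I ^ n • (⊤ : Submodule A (QuotSMulTop x N))) +
          colen (I ^ (n - c) • (⊤ : Submodule A N))
        = colen (I ^ n • (⊤ : Submodule A N) ⊔ LinearMap.range φ) +
          colen (I ^ (n - c) • (⊤ : Submodule A N)) := by rw [h3]
      _ ≤ colen (I ^ n • (⊤ : Submodule A N) ⊔ LinearMap.range φ) +
          colen ((I ^ n • (⊤ : Submodule A N)).comap φ) := by gcongr
      _ = colen (I ^ n • (⊤ : Submodule A N)) := by rw [h1]; exact add_comm _ _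
  have hf1 : colen (I ^ n • (⊤ : Submodule A (QuotSMulTop x N))) ≠ ⊤ :=
    ne_top_of_le_ne_top (hfin n) (le_trans le_self_add h4)
  have hf2 : colen (I ^ (n - c) • (⊤ : Submodule A N)) ≠ ⊤ :=
    ne_top_of_le_ne_top (hfin n) (le_trans le_add_self h4)
  unfold samuel cn
  rw [← ENat.toNat_add hf1 hf2]
  exact ENat.toNat_le_toNat h4 (hfin n)

theorem samuel_pos {I : Ideal A} {N : Type*} [AddCommGroup N] [Module A N] [Module.Finite A N]
    [Nontrivial N] (hI : I ≤ (Module.annihilator A N).jacobson) (n : ℕ) (hn : n ≠ 0)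
    (hfin : colen (I ^ n • (⊤ : Submodule A N)) ≠ ⊤) : 0 < samuel I N n := by
  have h1 : (⊤ : Submodule A N) ≠ I ^ n • ⊤ :=
    Submodule.top_ne_ideal_smul_of_le_jacobson_annihilator ((Ideal.pow_le_self hn).trans hI)
  haveI : Nontrivial (N ⧸ (I ^ n • (⊤ : Submodule A N))) :=
    Submodule.Quotient.nontrivial_iff.mpr h1.symm
  have hpos : 0 < colen (I ^ n • (⊤ : Submodule A N)) := Module.length_pos_iff.mpr this
  unfold samuel cn
  refine Nat.pos_of_ne_zero (fun h0 => ?_)
  rcases ENat.toNat_eq_zero.mp h0 with h | h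
  · exact (ne_of_gt hpos) h
  · exact hfin h

/-- Upper bound: the degree of the Hilbert–Samuel polynomial is at most the dimension. -/
theorem natDegree_le_of_supportDim_le [Finite (MaximalSpectrum A)] (N : Type u) [AddCommGroup N]
    [Module A N] [Module.Finite A N] (d : ℕ)
    (hd : Module.supportDim A N ≤ (d : WithBot ℕ∞)) (P : ℚ[X])
    (hP : HasSamuelPoly (Ring.jacobson A) N P) : P.natDegree ≤ d := by
  obtain ⟨x, hx, hK⟩ := Groth.Agent.S3406.exists_of_supportDim_le A d N hd
  have hI'r : Ideal.span (Set.range x) ≤ Ring.jacobson A :=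
    Ideal.span_le.mpr (by rintro _ ⟨i, rfl⟩; exact hx i)
  have hK' : Order.krullDim ↥(Module.support A N ∩
      PrimeSpectrum.zeroLocus ((Ideal.span (Set.range x) : Ideal A) : Set A)) ≤ 0 := by
    rw [PrimeSpectrum.zeroLocus_span]
    exact hK
  have hfin' := colen_pow_smul_top_ne_top (Ideal.span (Set.range x)) N hK'
  obtain ⟨Q, hQ, K₂, hK₂⟩ := exists_samuelPoly (N := N) x hfin'
  obtain ⟨K₁, hK₁⟩ := hP
  have hQdeg : Q.natDegree ≤ d := natDegree_le_iff_coeff_eq_zero.mpr (fun m hm => hQ m hm)
  refine le_trans (natDegree_le_of_eventually_le (N := max K₁ K₂) ?_ ?_) hQdeg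
  · intro n hn
    rw [← hK₁ n (le_trans (le_max_left _ _) hn)]
    exact Nat.cast_nonneg _
  · intro n hn
    rw [← hK₁ n (le_trans (le_max_left _ _) hn), ← hK₂ n (le_trans (le_max_right _ _) hn)]
    have : samuel (Ring.jacobson A) N n ≤ samuel (Ideal.span (Set.range x)) N n :=
      cn_le_of_le (Submodule.smul_mono_left (Ideal.pow_right_mono hI'r n)) (hfin' n)
    exact_mod_cast this

theorem withBot_enat_cancel {e : ℕ} {D : WithBot ℕ∞}
    (h : ((e + 1 : ℕ) : WithBot ℕ∞) ≤ D + 1) : (e : WithBot ℕ∞) ≤ D := by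
  induction D using WithBot.recBotCoe with
  | bot =>
    rw [WithBot.bot_add] at h
    exact absurd h (by simp)
  | coe a =>
    induction a using ENat.recTopCoe with
    | top => exact_mod_cast (le_top : (e : ℕ∞) ≤ ⊤)
    | coe m =>
      have h' : e + 1 ≤ m + 1 := by exact_mod_cast h
      exact_mod_cast (by omega : e ≤ m)

/-- Lower bound: the dimension is at most the degree of the Hilbert–Samuel polynomial. -/
theorem le_natDegree_of_le_supportDim [Finite (MaximalSpectrum A)] :
    ∀ (e : ℕ) (N : Type u) [AddCommGroup N] [Module A N] [Module.Finite A N] (P : ℚ[X]),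
      HasSamuelPoly (Ring.jacobson A) N P → (e : WithBot ℕ∞) ≤ Module.supportDim A N →
      e ≤ P.natDegree := by
  intro e
  induction e with
  | zero =>
    intros
    exact Nat.zero_le _
  | succ e ih =>
    intro N _ _ _ P hP hdim
    rw [Module.supportDim] at hdim
    obtain ⟨l, hl⟩ := Order.le_krullDim_iff.mp hdim
    obtain ⟨r₀, hr₀min, hr₀le⟩ :=
      Ideal.exists_minimalPrimes_le (Module.mem_support_iff_of_finite.mp l.head.2)
    have hprime : r₀.IsPrime := hr₀min.1.1
    haveI := hprime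
    have hass : IsAssociatedPrime r₀ N :=
      Module.associatedPrimes.minimalPrimes_annihilator_subset_associatedPrimes A N hr₀min
    obtain ⟨-, j, hj⟩ := (isAssociatedPrime_iff_exists_injective_linearMap r₀ N).mp hass
    have hmem : ∀ i, (l i).1 ∈ Module.support A (A ⧸ r₀) := by
      intro i
      rw [Module.mem_support_iff_of_finite, Ideal.annihilator_quotient]
      have h1 : l.head.1.asIdeal ≤ (l i).1.asIdeal := l.head_le i
      exact hr₀le.trans h1
    let l' : LTSeries (Module.support A (A ⧸ r₀)) :=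
      { length := l.length
        toFun := fun i => ⟨(l i).1, hmem i⟩
        step := fun i => l.step i }
    have hdimB : ((e + 1 : ℕ) : WithBot ℕ∞) ≤ Module.supportDim A (A ⧸ r₀) := by
      have h1 := Order.LTSeries.length_le_krullDim l'
      rw [show l'.length = e + 1 from hl] at h1
      exact h1
    have hnotmax : ¬ r₀.IsMaximal := by
      intro hmax
      have hlt : l.head < l.last :=
        l.strictMono (show (0 : Fin (l.length + 1)) < Fin.last l.length from
          Fin.lt_def.mpr (by simp [hl]))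
      have h01 : l.head.1.asIdeal < l.last.1.asIdeal := hlt
      have hE : r₀ = l.last.1.asIdeal :=
        hmax.eq_of_le l.last.1.2.ne_top (hr₀le.trans h01.le)
      exact absurd h01 (not_lt_of_ge (hE.symm.le.trans hr₀le))
    obtain ⟨x, hxr, hxr₀⟩ : ∃ x ∈ Ring.jacobson A, x ∉ r₀ := by
      by_contra hcon
      push Not at hcon
      exact hnotmax (Groth.Agent.S3406.isMaximal_of_jacobson_le A hprime (fun x hx => hcon x hx))
    have hreg : IsSMulRegular (A ⧸ r₀) x := by
      intro b b' hbb'
      have hne : Ideal.Quotient.mk r₀ x ≠ 0 := by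
        rwa [Ne, Ideal.Quotient.eq_zero_iff_mem]
      have h' : Ideal.Quotient.mk r₀ x * b = Ideal.Quotient.mk r₀ x * b' := by
        rw [← Ideal.Quotient.algebraMap_eq, ← Algebra.smul_def, ← Algebra.smul_def]
        exact hbb'
      exact mul_left_cancel₀ hne h'
    haveI : Nontrivial (A ⧸ r₀) := Ideal.Quotient.nontrivial_iff.mpr hprime.ne_top
    have hxJ : x ∈ (Module.annihilator A (A ⧸ r₀)).jacobson :=
      Ideal.ringJacobson_le_jacobson hxr
    have hdim1 := Module.supportDim_le_supportDim_quotSMulTop_succ_of_mem_jacobson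
      (M := A ⧸ r₀) hxJ
    have hdimQ : (e : WithBot ℕ∞) ≤ Module.supportDim A (QuotSMulTop x (A ⧸ r₀)) :=
      withBot_enat_cancel (hdimB.trans hdim1)
    haveI : Nontrivial (QuotSMulTop x (A ⧸ r₀)) :=
      Submodule.Quotient.nontrivial_iff.mpr
        (Submodule.top_ne_pointwise_smul_of_mem_jacobson_annihilator hxJ).symm
    obtain ⟨PB, hPB⟩ := exists_samuelPoly_jacobson (A := A) (A ⧸ r₀)
    obtain ⟨PQ, hPQ⟩ := exists_samuelPoly_jacobson (A := A) (QuotSMulTop x (A ⧸ r₀))
    have ih1 : e ≤ PQ.natDegree := ih _ PQ hPQ hdimQ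
    have hfinB := colen_jacobson_pow_ne_top (A := A) (A ⧸ r₀)
    have hfinN := colen_jacobson_pow_ne_top (A := A) N
    have hfinQ := colen_jacobson_pow_ne_top (A := A) (QuotSMulTop x (A ⧸ r₀))
    obtain ⟨c, hc⟩ := samuel_quotSMulTop_add_le (Ring.jacobson A) x hreg hfinB
    obtain ⟨c', hc'⟩ := samuel_le_of_injective (Ring.jacobson A) j hj hfinN
    obtain ⟨KB, hKB⟩ := hPB
    obtain ⟨KQ, hKQ⟩ := hPQ
    obtain ⟨KN, hKN⟩ := hP
    have h12 : PQ.natDegree + 1 ≤ PB.natDegree := by
      refine natDegree_succ_le_of_eventually_le_sub (N := max (max KB KQ) 1 + c) (c := c) ?_ ?_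
      · intro n hn
        rw [← hKQ n (by omega)]
        have := samuel_pos (I := Ring.jacobson A) (N := QuotSMulTop x (A ⧸ r₀))
          Ideal.ringJacobson_le_jacobson n (by omega) (hfinQ n)
        exact_mod_cast this
      · intro n hn
        have hnc : c ≤ n := by omega
        have h1 := hc n hnc
        rw [← hKQ n (by omega), ← hKB n (by omega)]
        have h2 : ((n : ℚ) - c) = ((n - c : ℕ) : ℚ) := by rw [Nat.cast_sub hnc]
        rw [h2, ← hKB (n - c) (by omega)]
        have h3 : (samuel (Ring.jacobson A) (QuotSMulTop x (A ⧸ r₀)) n : ℚ) +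
            samuel (Ring.jacobson A) (A ⧸ r₀) (n - c) ≤ samuel (Ring.jacobson A) (A ⧸ r₀) n := by
          exact_mod_cast h1
        linarith
    have h13 : PB.natDegree ≤ P.natDegree := by
      refine natDegree_le_of_eventually_shift_le (N := max KB KN + c') (c := c') ?_ ?_
      · intro n hn
        have hnc : c' ≤ n := by omega
        have h2 : ((n : ℚ) - c') = ((n - c' : ℕ) : ℚ) := by rw [Nat.cast_sub hnc]
        rw [h2, ← hKB (n - c') (by omega)]
        exact Nat.cast_nonneg _
      · intro n hn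
        have hnc : c' ≤ n := by omega
        have h2 : ((n : ℚ) - c') = ((n - c' : ℕ) : ℚ) := by rw [Nat.cast_sub hnc]
        rw [h2, ← hKB (n - c') (by omega), ← hKN n (by omega)]
        exact_mod_cast hc' n hnc
    omega

/-- The dimension of a nonzero finite module over a semilocal Noetherian ring is finite. -/
theorem exists_supportDim_eq_natCast [Finite (MaximalSpectrum A)] (M : Type u) [AddCommGroup M]
    [Module A M] [Module.Finite A M] [Nontrivial M] :
    ∃ d : ℕ, Module.supportDim A M = (d : WithBot ℕ∞) := by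
  obtain ⟨n₀, x₀, hspan⟩ := Submodule.fg_iff_exists_fin_generating_family.mp
    (IsNoetherian.noetherian (Ring.jacobson A))
  have hx₀ : ∀ i, x₀ i ∈ Ring.jacobson A := fun i => by
    rw [← hspan]; exact Submodule.subset_span ⟨i, rfl⟩
  have hbound : Module.supportDim A M ≤ (n₀ : WithBot ℕ∞) := by
    have h0 : Order.krullDim ↥(Module.support A M ∩
        PrimeSpectrum.zeroLocus (Set.range x₀)) ≤ 0 := by
      apply Groth.Agent.S3406.krullDim_le_zero_of_forall_isMaximal
      rintro P ⟨-, hP⟩
      apply Groth.Agent.S3406.isMaximal_of_jacobson_le A P.2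
      rw [← hspan]
      exact Submodule.span_le.mpr ((PrimeSpectrum.mem_zeroLocus _ _).mp hP)
    calc Module.supportDim A M ≤ _ + (n₀ : ℕ) := Groth.Agent.S3406.supportDim_le_add A n₀ M x₀ hx₀
      _ ≤ 0 + (n₀ : ℕ) := by gcongr
      _ = (n₀ : WithBot ℕ∞) := zero_add _
  obtain ⟨a, ha⟩ := WithBot.ne_bot_iff_exists.mp (Module.supportDim_ne_bot_of_nontrivial A M)
  rw [← ha] at hbound
  have ha' : a ≤ (n₀ : ℕ∞) := by exact_mod_cast hbound
  obtain ⟨m, rfl⟩ := ENat.ne_top_iff_exists.mp (ne_top_of_le_ne_top (ENat.natCast_ne_top n₀) ha')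
  exact ⟨m, ha.symm⟩

end Groth.Agent.H17.HS
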