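import Groth.Agent.H17.HS.Bound
import Groth.Agent.H17.HS.Samuel

/-!
# Towards the associativity formula for Samuel multiplicities

Lengths of localizations at primes, the Samuel polynomial of an arbitrary ideal of definition of a
Noetherian local ring, and vanishing of the normalized limit below the top dimension.
-/

set_option autoImplicit false

namespace Groth.Agent.H17.HS

open Polynomial Filter Topology

universe u

section LocLength

variable {A : Type u} [CommRing A]

/-- The length of the localization of `N` at the prime `p`, over the local ring `A_p`. -/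
noncomputable def locLen (p : Ideal A) [p.IsPrime] (N : Type*) [AddCommGroup N] [Module A N] : ℕ∞ :=
  Module.length (Localization.AtPrime p) (LocalizedModule p.primeCompl N)

theorem locLen_exact (p : Ideal A) [p.IsPrime] {N₁ N₂ N₃ : Type*}
    [AddCommGroup N₁] [Module A N₁] [AddCommGroup N₂] [Module A N₂] [AddCommGroup N₃] [Module A N₃]
    (f : N₁ →ₗ[A] N₂) (g : N₂ →ₗ[A] N₃) (hf : Function.Injective f)
    (hg : Function.Surjective g) (h : Function.Exact f g) :
    locLen p N₂ = locLen p N₁ + locLen p N₃ :=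
  Module.length_eq_add_of_exact (LocalizedModule.map p.primeCompl f)
    (LocalizedModule.map p.primeCompl g)
    (LocalizedModule.map_injective _ f hf) (LocalizedModule.map_surjective _ g hg)
    (LocalizedModule.map_exact _ f g h)

theorem locLen_of_subsingleton (p : Ideal A) [p.IsPrime] (N : Type*) [AddCommGroup N] [Module A N]
    [Subsingleton N] : locLen p N = 0 :=
  Module.length_eq_zero_iff.mpr inferInstance

theorem locLen_quotient_eq_zero {q p : Ideal A} [p.IsPrime] (h : ¬ q ≤ p) :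
    locLen p (A ⧸ q) = 0 := by
  unfold locLen
  rw [Module.length_eq_zero_iff, LocalizedModule.subsingleton_iff]
  obtain ⟨r, hrq, hrp⟩ := SetLike.not_le_iff_exists.mp h
  intro m
  obtain ⟨a, rfl⟩ := Ideal.Quotient.mk_surjective m
  refine ⟨r, hrp, ?_⟩
  have h1 : r • (Ideal.Quotient.mk q a) = Ideal.Quotient.mk q (r * a) := rfl
  rw [h1, Ideal.Quotient.eq_zero_iff_mem]
  exact q.mul_mem_right _ hrq

theorem locLen_quotient_self (q : Ideal A) [q.IsPrime] : locLen q (A ⧸ q) = 1 := by
  unfold locLen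
  rw [Module.length_eq_one_iff, isSimpleModule_iff_toSpanSingleton_surjective]
  have hsm : ∀ (r a : A), r • (Ideal.Quotient.mk q a) = Ideal.Quotient.mk q (r * a) :=
    fun _ _ => rfl
  have hmk0 : ∀ (a : A) (s : q.primeCompl),
      (LocalizedModule.mk (Ideal.Quotient.mk q a) s : LocalizedModule q.primeCompl (A ⧸ q)) = 0 →
        a ∈ q := by
    intro a s h
    rw [← LocalizedModule.zero_mk s, LocalizedModule.mk_eq] at h
    obtain ⟨u, hu⟩ := h
    simp only [smul_zero, Submonoid.smul_def, hsm] at hu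
    rw [Ideal.Quotient.eq_zero_iff_mem] at hu
    rcases Ideal.IsPrime.mem_or_mem ‹q.IsPrime› hu with h2 | h2
    · exact absurd h2 u.2
    · rcases Ideal.IsPrime.mem_or_mem ‹q.IsPrime› h2 with h3 | h3
      · exact absurd h3 s.2
      · exact h3
  constructor
  · refine ⟨⟨LocalizedModule.mk (Ideal.Quotient.mk q 1) 1, 0, fun h => ?_⟩⟩
    exact (Ideal.ne_top_iff_one q).mp (Ideal.IsPrime.ne_top ‹q.IsPrime›) (hmk0 1 1 h)
  · intro x
    refine LocalizedModule.induction_on (fun m s => ?_) x
    intro hx y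
    refine LocalizedModule.induction_on (fun n t => ?_) y
    obtain ⟨a, rfl⟩ := Ideal.Quotient.mk_surjective m
    obtain ⟨b, rfl⟩ := Ideal.Quotient.mk_surjective n
    have ha : a ∉ q := fun ha => hx (by
      rw [Ideal.Quotient.eq_zero_iff_mem.mpr ha, LocalizedModule.zero_mk])
    refine ⟨Localization.mk (b * s) (⟨a, ha⟩ * t), ?_⟩
    rw [LinearMap.toSpanSingleton_apply, LocalizedModule.mk_smul_mk]
    refine LocalizedModule.mk_eq.mpr ⟨1, ?_⟩
    simp only [one_smul, Submonoid.smul_def, Submonoid.coe_mul, hsm]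
    congr 1
    ring

end LocLength

section Dim

variable {A : Type u} [CommRing A]

/-- Two comparable primes whose quotients have the same finite dimension coincide. -/
theorem eq_of_le_of_ringKrullDim {q p : Ideal A} [q.IsPrime] [p.IsPrime] (hqp : q ≤ p) {d : ℕ}
    (hq : ringKrullDim (A ⧸ q) ≤ d) (hp : ringKrullDim (A ⧸ p) = d) : q = p := by
  by_contra hne
  obtain ⟨x, hxp, hxq⟩ := SetLike.exists_of_lt (lt_of_le_of_ne hqp hne)
  obtain ⟨r, hr⟩ : ∃ r : A ⧸ q, r = Ideal.Quotient.mk q x := ⟨_, rfl⟩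
  have hr0 : r ≠ 0 := fun h => hxq (Ideal.Quotient.eq_zero_iff_mem.mp (hr ▸ h))
  have hrnzd : r ∈ nonZeroDivisors (A ⧸ q) := mem_nonZeroDivisors_of_ne_zero hr0
  have h1 := ringKrullDim_quotient_succ_le_of_nonZeroDivisor hrnzd
  have hker : ∀ a ∈ Ideal.span {r}, Ideal.Quotient.factor hqp a = 0 := by
    intro a ha
    obtain ⟨c, rfl⟩ := Ideal.mem_span_singleton'.mp ha
    rw [map_mul, hr, Ideal.Quotient.factor_mk, Ideal.Quotient.eq_zero_iff_mem.mpr hxp, mul_zero]
  have hφ : Function.Surjective (Ideal.Quotient.lift (Ideal.span {r})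
      (Ideal.Quotient.factor hqp) hker) :=
    Ideal.Quotient.lift_surjective_of_surjective _ _ (Ideal.Quotient.factor_surjective hqp)
  have h2 := ringKrullDim_le_of_surjective _ hφ
  have h3 : (d : WithBot ℕ∞) + 1 ≤ d := by
    calc (d : WithBot ℕ∞) + 1 = ringKrullDim (A ⧸ p) + 1 := by rw [hp]
      _ ≤ ringKrullDim ((A ⧸ q) ⧸ Ideal.span {r}) + 1 := by gcongr
      _ ≤ ringKrullDim (A ⧸ q) := h1
      _ ≤ d := hq
  have : d + 1 ≤ d := by exact_mod_cast h3
  omega

theorem exists_succ_of_lt_natCast {D : WithBot ℕ∞} {d : ℕ} (h0 : 0 ≤ D) (h : D ≤ d)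
    (hne : D ≠ d) : ∃ d' : ℕ, d = d' + 1 ∧ D ≤ (d' : WithBot ℕ∞) := by
  induction D using WithBot.recBotCoe with
  | bot => exact absurd h0 (by simp)
  | coe a =>
    induction a using ENat.recTopCoe with
    | top =>
      have h' : (⊤ : ℕ∞) ≤ (d : ℕ∞) := by exact_mod_cast h
      exact absurd h' (by simp)
    | coe m =>
      have h' : m ≤ d := by exact_mod_cast h
      have hne' : m ≠ d := by
        rintro rfl
        exact hne rfl
      obtain ⟨d', rfl⟩ : ∃ d', d = d' + 1 := ⟨d - 1, by omega⟩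
      refine ⟨d', rfl, ?_⟩
      exact_mod_cast (by omega : m ≤ d')

end Dim

section General

variable {A : Type u} [CommRing A] [IsNoetherianRing A] [IsLocalRing A]

theorem finite_maximalSpectrum_of_isLocalRing : Finite (MaximalSpectrum A) := by
  haveI : Subsingleton (MaximalSpectrum A) := ⟨fun p q => MaximalSpectrum.ext
    ((IsLocalRing.eq_maximalIdeal p.2).trans (IsLocalRing.eq_maximalIdeal q.2).symm)⟩
  exact Finite.of_subsingleton

theorem colen_pow_ne_top_of_primary {I : Ideal A} {k : ℕ}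
    (hk : IsLocalRing.maximalIdeal A ^ k ≤ I) (N : Type u) [AddCommGroup N] [Module A N]
    [Module.Finite A N] (t : ℕ) : colen (I ^ t • (⊤ : Submodule A N)) ≠ ⊤ := by
  apply colen_pow_smul_top_ne_top I N
  apply Groth.Agent.S3406.krullDim_le_zero_of_forall_isMaximal
  rintro P ⟨-, hP⟩
  have hIP : I ≤ P.asIdeal := (PrimeSpectrum.mem_zeroLocus _ _).mp hP
  have hmP : IsLocalRing.maximalIdeal A ≤ P.asIdeal :=
    Ideal.IsPrime.le_of_pow_le (hP := P.2) (hk.trans hIP)
  have hE : IsLocalRing.maximalIdeal A = P.asIdeal :=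
    (IsLocalRing.maximalIdeal.isMaximal A).eq_of_le P.2.ne_top hmP
  exact hE ▸ IsLocalRing.maximalIdeal.isMaximal A

/-- The Samuel polynomial of an ideal of definition, with degree bounded by the dimension. -/
theorem exists_samuelPoly_of_primary {I : Ideal A} {k : ℕ}
    (hk : IsLocalRing.maximalIdeal A ^ k ≤ I) (N : Type u) [AddCommGroup N] [Module A N]
    [Module.Finite A N] :
    ∃ P : ℚ[X], HasSamuelPoly I N P ∧
      ∀ d : ℕ, Module.supportDim A N ≤ (d : WithBot ℕ∞) → P.natDegree ≤ d := by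
  haveI := finite_maximalSpectrum_of_isLocalRing (A := A)
  have hfin := colen_pow_ne_top_of_primary hk N
  obtain ⟨t, xs, hspan⟩ :=
    Submodule.fg_iff_exists_fin_generating_family.mp (IsNoetherian.noetherian I)
  have hspan' : Ideal.span (Set.range xs) = I := hspan
  obtain ⟨P, -, K, hK⟩ : ∃ P : ℚ[X], (∀ m, t + 1 ≤ m → P.coeff m = 0) ∧
      HasSamuelPoly I N P := by
    have h1 := exists_samuelPoly (N := N) xs (by rw [hspan']; exact hfin)
    rwa [hspan'] at h1
  refine ⟨P, ⟨K, hK⟩, fun d hd => ?_⟩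
  obtain ⟨Pm, Km, hKm⟩ := exists_samuelPoly_jacobson (A := A) N
  have hjac : Ring.jacobson A = IsLocalRing.maximalIdeal A :=
    IsLocalRing.ringJacobson_eq_maximalIdeal A
  have hPm_deg : Pm.natDegree ≤ d := natDegree_le_of_supportDim_le N d hd Pm ⟨Km, hKm⟩
  have hk' : IsLocalRing.maximalIdeal A ^ (k + 1) ≤ I :=
    (Ideal.pow_le_pow_right (Nat.le_succ k)).trans hk
  obtain ⟨Q, hQ⟩ : ∃ Q : ℚ[X], Q = Pm.comp (C ((k + 1 : ℕ) : ℚ) * X) := ⟨_, rfl⟩
  have hQdeg : Q.natDegree = Pm.natDegree := by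
    rw [hQ, natDegree_comp, natDegree_C_mul_X _ (by positivity), mul_one]
  have hQeval : ∀ n : ℕ, Q.eval (n : ℚ) = Pm.eval (((k + 1) * n : ℕ) : ℚ) := by
    intro n
    rw [hQ, eval_comp]
    simp
  refine le_trans (natDegree_le_of_eventually_le (N := max K Km) ?_ ?_) (hQdeg.le.trans hPm_deg)
  · intro n hn
    rw [← hK n (le_trans (le_max_left _ _) hn)]
    exact Nat.cast_nonneg _
  · intro n hn
    have hn1 : Km ≤ (k + 1) * n :=
      le_trans (le_trans (le_max_right _ _) hn) (Nat.le_mul_of_pos_left n (Nat.succ_pos k))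
    rw [← hK n (le_trans (le_max_left _ _) hn), hQeval, ← hKm _ hn1]
    have h1 : samuel I N n ≤ samuel (Ring.jacobson A) N ((k + 1) * n) := by
      refine cn_le_of_le ?_ (colen_jacobson_pow_ne_top (A := A) N _)
      rw [hjac, pow_mul]
      exact Submodule.smul_mono_left (Ideal.pow_right_mono hk' n)
    exact_mod_cast h1

/-- Below the top degree, the normalized Samuel function tends to zero. -/
theorem tendsto_zero_of_natDegree_lt {I : Ideal A} {N : Type u} [AddCommGroup N] [Module A N]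
    {P : ℚ[X]} (hP : HasSamuelPoly I N P) {d : ℕ} (hd : P.natDegree < d) :
    Tendsto (fun t : ℕ => (d.factorial : ℝ) * (samuel I N t : ℝ) / (t : ℝ) ^ d) atTop (𝓝 0) := by
  obtain ⟨K, hK⟩ := hP
  obtain ⟨PR, hPRdef⟩ : ∃ PR : ℝ[X], PR = P.map (algebraMap ℚ ℝ) := ⟨_, rfl⟩
  have hPR : ∀ n, K ≤ n → (samuel I N n : ℝ) = PR.eval (n : ℝ) := by
    intro n hn
    rw [hPRdef, eval_natCast_map, ← hK n hn]
    simp
  have hdeg : PR.degree < ((X : ℝ[X]) ^ d).degree := by
    rw [degree_X_pow, hPRdef]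
    refine lt_of_le_of_lt degree_le_natDegree ?_
    exact_mod_cast lt_of_le_of_lt natDegree_map_le hd
  have h1 := (div_tendsto_atTop_zero_of_degree_lt PR (X ^ d) hdeg).comp
    (tendsto_natCast_atTop_atTop (R := ℝ))
  have h2 := h1.const_mul (d.factorial : ℝ)
  rw [mul_zero] at h2
  refine h2.congr' ?_
  filter_upwards [eventually_ge_atTop K] with n hn
  simp only [Function.comp_apply, eval_pow, eval_X]
  rw [hPR n hn, mul_div_assoc]

end General

end Groth.Agent.H17.HS
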