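import Mathlib

/-!
# Polynomial lemmas for Hilbert–Samuel functions

Discrete integration of polynomials and degree comparison of eventually ordered polynomials.
-/

set_option autoImplicit false

namespace Groth.Agent.H17.HS

open Polynomial Filter

/-- Every polynomial of degree `< s` is a forward difference of one of degree `< s + 1`. -/
theorem exists_fwdDiff_eq (s : ℕ) (Q : ℚ[X]) (hQ : ∀ m, s ≤ m → Q.coeff m = 0) :
    ∃ R : ℚ[X], (∀ m, s + 1 ≤ m → R.coeff m = 0) ∧ R.comp (X + 1) - R = Q := by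
  induction s generalizing Q with
  | zero =>
    refine ⟨0, by simp, ?_⟩
    have : Q = 0 := by
      ext m
      simpa using hQ m (Nat.zero_le m)
    simp [this]
  | succ s ih =>
    obtain ⟨a, ha⟩ : ∃ a : ℚ, a * ((s : ℚ) + 1) = Q.coeff s :=
      ⟨Q.coeff s / ((s : ℚ) + 1), div_mul_cancel₀ _ (by positivity)⟩
    have hDT : ∀ m, (((X : ℚ[X]) ^ (s + 1)).comp (X + 1) - X ^ (s + 1)).coeff m =
        ((s + 1).choose m : ℚ) - if m = s + 1 then 1 else 0 := by
      intro m
      rw [X_pow_comp, coeff_sub, coeff_X_add_one_pow, coeff_X_pow]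
    have hQ' : ∀ m, s ≤ m →
        (Q - C a * (((X : ℚ[X]) ^ (s + 1)).comp (X + 1) - X ^ (s + 1))).coeff m = 0 := by
      intro m hm
      rw [coeff_sub, coeff_C_mul, hDT]
      rcases Nat.lt_or_ge s m with h | h
      · rw [hQ m h]
        by_cases h1 : m = s + 1
        · subst h1
          simp
        · have h2 : s + 1 < m := lt_of_le_of_ne h (Ne.symm h1)
          rw [Nat.choose_eq_zero_of_lt h2, if_neg h1]
          simp
      · have hms : m = s := le_antisymm h hm
        rw [hms, Nat.choose_succ_self_right, if_neg (by omega), sub_zero, ← ha]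
        push_cast
        ring
    obtain ⟨R', hR', hDR'⟩ := ih _ hQ'
    refine ⟨R' + C a * X ^ (s + 1), ?_, ?_⟩
    · intro m hm
      rw [coeff_add, coeff_C_mul, hR' m (by omega), coeff_X_pow, if_neg (by omega)]
      simp
    · rw [add_comp, mul_comp, C_comp]
      have : R'.comp (X + 1) + C a * ((X : ℚ[X]) ^ (s + 1)).comp (X + 1) - (R' + C a * X ^ (s + 1)) =
          (R'.comp (X + 1) - R') + C a * (((X : ℚ[X]) ^ (s + 1)).comp (X + 1) - X ^ (s + 1)) := by
        ring
      rw [this, hDR']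
      ring

/-- Discrete integration: if `Δf` is eventually a polynomial of degree `< s`, then `f` is
eventually a polynomial of degree `< s + 1`. -/
theorem exists_poly_of_fwdDiff (s : ℕ) (f : ℕ → ℚ) (Q : ℚ[X]) (hQ : ∀ m, s ≤ m → Q.coeff m = 0)
    (N : ℕ) (hf : ∀ n, N ≤ n → f (n + 1) - f n = Q.eval (n : ℚ)) :
    ∃ P : ℚ[X], (∀ m, s + 1 ≤ m → P.coeff m = 0) ∧ ∀ n, N ≤ n → f n = P.eval (n : ℚ) := by
  obtain ⟨R, hR, hDR⟩ := exists_fwdDiff_eq s Q hQ
  have hRn : ∀ n : ℕ, R.eval ((n : ℚ) + 1) - R.eval (n : ℚ) = Q.eval (n : ℚ) := by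
    intro n
    have := congrArg (eval (n : ℚ)) hDR
    simpa [eval_comp] using this
  refine ⟨R + C (f N - R.eval (N : ℚ)), ?_, ?_⟩
  · intro m hm
    rw [coeff_add, hR m hm, coeff_C, if_neg (by omega), add_zero]
  · intro n hn
    induction n, hn using Nat.le_induction with
    | base => simp
    | succ n hn ih =>
      have h1 := hf n hn
      have h2 := hRn n
      simp only [eval_add, eval_C] at ih ⊢
      push_cast
      linarith

/-- Degree comparison: `0 ≤ P₁ ≤ P₂` eventually implies `deg P₁ ≤ deg P₂`. -/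
theorem natDegree_le_of_eventually_le {P₁ P₂ : ℚ[X]} {N : ℕ}
    (h0 : ∀ n : ℕ, N ≤ n → 0 ≤ P₁.eval (n : ℚ))
    (h : ∀ n : ℕ, N ≤ n → P₁.eval (n : ℚ) ≤ P₂.eval (n : ℚ)) :
    P₁.natDegree ≤ P₂.natDegree := by
  by_contra hlt
  push Not at hlt
  have hdeg1 : 0 < P₁.degree := natDegree_pos_iff_degree_pos.mp (by omega)
  have hlc1 : 0 ≤ P₁.leadingCoeff := by
    by_contra hneg
    push Not at hneg
    have ht := P₁.tendsto_atBot_of_leadingCoeff_nonpos hdeg1 hneg.le
    have ht' := ht.comp (tendsto_natCast_atTop_atTop (R := ℚ))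
    have hev := ht'.eventually (eventually_lt_atBot (0 : ℚ))
    obtain ⟨n, hn1, hn2⟩ := (hev.and (eventually_ge_atTop N)).exists
    exact absurd (h0 n hn2) (not_le.mpr hn1)
  have hdegD : (P₁ - P₂).degree = P₁.degree :=
    degree_sub_eq_left_of_degree_lt (degree_lt_degree hlt)
  have hlcD : (P₁ - P₂).leadingCoeff = P₁.leadingCoeff :=
    leadingCoeff_sub_of_degree_lt (degree_lt_degree hlt)
  have ht := (P₁ - P₂).tendsto_atTop_of_leadingCoeff_nonneg (hdegD ▸ hdeg1) (hlcD ▸ hlc1)
  have ht' := ht.comp (tendsto_natCast_atTop_atTop (R := ℚ))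
  have hev := ht'.eventually (eventually_gt_atTop (0 : ℚ))
  obtain ⟨n, hn1, hn2⟩ := (hev.and (eventually_ge_atTop N)).exists
  have := h n hn2
  simp only [Function.comp_apply, eval_sub] at hn1
  linarith

/-- Shifting the argument does not change the degree. -/
theorem natDegree_comp_X_sub_C (P : ℚ[X]) (c : ℚ) : (P.comp (X - C c)).natDegree = P.natDegree := by
  rw [natDegree_comp, natDegree_X_sub_C, mul_one]

/-- Degree drop: `0 < P₁ ≤ P₂(n) - P₂(n - c)` eventually implies `deg P₁ + 1 ≤ deg P₂`. -/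
theorem natDegree_succ_le_of_eventually_le_sub {P₁ P₂ : ℚ[X]} {N c : ℕ}
    (h0 : ∀ n : ℕ, N ≤ n → 0 < P₁.eval (n : ℚ))
    (h : ∀ n : ℕ, N ≤ n → P₁.eval (n : ℚ) ≤ P₂.eval (n : ℚ) - P₂.eval ((n : ℚ) - c)) :
    P₁.natDegree + 1 ≤ P₂.natDegree := by
  set Q : ℚ[X] := P₂ - P₂.comp (X - C (c : ℚ)) with hQ
  have hQeval : ∀ x : ℚ, Q.eval x = P₂.eval x - P₂.eval (x - c) := by
    intro x
    simp [hQ, eval_comp]
  by_cases h2 : P₂.natDegree = 0
  · exfalso
    obtain ⟨a, ha⟩ := natDegree_eq_zero.mp h2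
    have h1 := h N le_rfl
    have h0N := h0 N le_rfl
    rw [← ha] at h1
    simp only [eval_C, sub_self] at h1
    linarith
  · have hlt : Q.natDegree < P₂.natDegree := by
      have hP2 : P₂ ≠ 0 := by
        rintro rfl
        simp at h2
      have hcomp_deg : (P₂.comp (X - C (c : ℚ))).natDegree = P₂.natDegree :=
        natDegree_comp_X_sub_C P₂ c
      have hcomp_lc : (P₂.comp (X - C (c : ℚ))).leadingCoeff = P₂.leadingCoeff := by
        rw [leadingCoeff_comp (by rw [natDegree_X_sub_C]; exact one_ne_zero),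
          leadingCoeff_X_sub_C, one_pow, mul_one]
      have hcomp_ne : P₂.comp (X - C (c : ℚ)) ≠ 0 := by
        intro h0'
        rw [h0', leadingCoeff_zero] at hcomp_lc
        exact hP2 (leadingCoeff_eq_zero.mp hcomp_lc.symm)
      have hd : P₂.degree = (P₂.comp (X - C (c : ℚ))).degree := by
        rw [degree_eq_natDegree hP2, degree_eq_natDegree hcomp_ne, hcomp_deg]
      have hdl := degree_sub_lt_left hd hP2 hcomp_lc.symm
      by_cases hQ0 : Q = 0
      · rw [hQ0, natDegree_zero]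
        omega
      · exact natDegree_lt_natDegree hQ0 hdl
    have hle := natDegree_le_of_eventually_le (P₁ := P₁) (P₂ := Q) (N := N)
      (fun n hn => (h0 n hn).le) (fun n hn => by rw [hQeval]; exact h n hn)
    omega

/-- Degree comparison with a shift: `0 ≤ P₁(n - c) ≤ P₂(n)` eventually. -/
theorem natDegree_le_of_eventually_shift_le {P₁ P₂ : ℚ[X]} {N c : ℕ}
    (h0 : ∀ n : ℕ, N ≤ n → 0 ≤ P₁.eval ((n : ℚ) - c))
    (h : ∀ n : ℕ, N ≤ n → P₁.eval ((n : ℚ) - c) ≤ P₂.eval (n : ℚ)) :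
    P₁.natDegree ≤ P₂.natDegree := by
  rw [← natDegree_comp_X_sub_C P₁ c]
  refine natDegree_le_of_eventually_le (N := N) ?_ ?_
  · intro n hn
    simpa [eval_comp] using h0 n hn
  · intro n hn
    simpa [eval_comp] using h n hn

end Groth.Agent.H17.HS
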