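import Mathlib

/-!
# Colengths of submodules

`colen W = length (M ⧸ W)`, with the additivity lemma behind the Hilbert–Samuel induction.
-/

set_option autoImplicit false

namespace Groth.Agent.H17.HS

variable {A : Type*} [CommRing A]
variable {M : Type*} [AddCommGroup M] [Module A M]
variable {M₁ : Type*} [AddCommGroup M₁] [Module A M₁]
variable {M₂ : Type*} [AddCommGroup M₂] [Module A M₂]

/-- The colength of a submodule. -/
noncomputable def colen (W : Submodule A M) : ℕ∞ := Module.length A (M ⧸ W)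

theorem colen_anti {W₁ W₂ : Submodule A M} (h : W₁ ≤ W₂) : colen W₂ ≤ colen W₁ :=
  Module.length_le_of_surjective (Submodule.factor h) (Submodule.factor_surjective h)

theorem colen_ne_top_of_le {W₁ W₂ : Submodule A M} (h : W₁ ≤ W₂) (h1 : colen W₁ ≠ ⊤) :
    colen W₂ ≠ ⊤ :=
  ne_top_of_le_ne_top h1 (colen_anti h)

/-- Key additivity: `ℓ(M₂/V) = ℓ(M₁/f⁻¹V) + ℓ(M₂/(V + im f))`. -/
theorem length_quotient_eq_add (f : M₁ →ₗ[A] M₂) (V : Submodule A M₂) :
    Module.length A (M₂ ⧸ V) =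
      Module.length A (M₁ ⧸ V.comap f) + Module.length A (M₂ ⧸ (V ⊔ LinearMap.range f)) := by
  set g : M₁ →ₗ[A] M₂ ⧸ V := V.mkQ ∘ₗ f with hg
  have hker : LinearMap.ker g = V.comap f := by
    rw [hg, LinearMap.ker_comp, Submodule.ker_mkQ]
  have hrange : LinearMap.range g = (V ⊔ LinearMap.range f).map V.mkQ := by
    rw [hg, LinearMap.range_comp, Submodule.map_sup, Submodule.mkQ_map_self, bot_sup_eq]
  have h1 := Module.length_eq_add_of_exact (LinearMap.range g).subtype (LinearMap.range g).mkQ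
    (Submodule.subtype_injective _) (Submodule.mkQ_surjective _) (LinearMap.exact_subtype_mkQ _)
  have e1 : (M₁ ⧸ V.comap f) ≃ₗ[A] LinearMap.range g :=
    (Submodule.quotEquivOfEq _ _ hker.symm).trans g.quotKerEquivRange
  have e2 : ((M₂ ⧸ V) ⧸ LinearMap.range g) ≃ₗ[A] M₂ ⧸ (V ⊔ LinearMap.range f) :=
    (Submodule.quotEquivOfEq _ _ hrange).trans
      (Submodule.quotientQuotientEquivQuotient V _ le_sup_left)
  rw [h1, e1.length_eq, e2.length_eq]

theorem colen_eq_add (f : M₁ →ₗ[A] M₂) (V : Submodule A M₂) :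
    colen V = colen (V.comap f) + colen (V ⊔ LinearMap.range f) :=
  length_quotient_eq_add f V

theorem colen_comap_le (f : M₁ →ₗ[A] M₂) (V : Submodule A M₂) : colen (V.comap f) ≤ colen V := by
  rw [colen_eq_add f V]
  exact le_self_add

/-- The diamond identity `c(U ∩ φ⁻¹V) + c(V + φU) = c(U) + c(V)`. -/
theorem colen_inf_comap_add (φ : M →ₗ[A] M) (U V : Submodule A M) :
    colen (U ⊓ V.comap φ) + colen (V ⊔ U.map φ) = colen U + colen V := by
  have h1 := colen_eq_add (φ ∘ₗ U.subtype) V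
  have hr1 : LinearMap.range (φ ∘ₗ U.subtype) = U.map φ := by
    rw [LinearMap.range_comp, Submodule.range_subtype]
  rw [hr1] at h1
  have h2 := colen_eq_add U.subtype (U ⊓ V.comap φ)
  have hc : (U ⊓ V.comap φ).comap U.subtype = V.comap (φ ∘ₗ U.subtype) := by
    rw [Submodule.comap_inf, Submodule.comap_subtype_self, top_inf_eq, Submodule.comap_comp]
  have hs : (U ⊓ V.comap φ) ⊔ LinearMap.range U.subtype = U := by
    rw [Submodule.range_subtype]
    exact sup_of_le_right inf_le_left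
  rw [hc, hs] at h2
  rw [h1, h2]
  ring

/-- Natural-number colength. -/
noncomputable def cn (W : Submodule A M) : ℕ := (colen W).toNat

theorem cn_inf_comap_add (φ : M →ₗ[A] M) (U V : Submodule A M)
    (hU : colen U ≠ ⊤) (hV : colen V ≠ ⊤) :
    cn (U ⊓ V.comap φ) + cn (V ⊔ U.map φ) = cn U + cn V := by
  have h := colen_inf_comap_add φ U V
  have hsum : colen U + colen V ≠ ⊤ := by simp [hU, hV]
  have h1 : colen (U ⊓ V.comap φ) ≠ ⊤ := by
    intro h0; rw [h0, top_add] at h; exact hsum h.symm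
  have h2 : colen (V ⊔ U.map φ) ≠ ⊤ := colen_ne_top_of_le le_sup_left hV
  unfold cn
  rw [← ENat.toNat_add h1 h2, ← ENat.toNat_add hU hV, h]

theorem cn_le_of_le {W₁ W₂ : Submodule A M} (h : W₁ ≤ W₂) (h1 : colen W₁ ≠ ⊤) :
    cn W₂ ≤ cn W₁ :=
  ENat.toNat_le_toNat (colen_anti h) h1

/-- Quotient of a quotient: `c_{N/K}(I^n (N/K)) = c_N(K + I^n N)`. -/
theorem colen_smul_top_quotient (I : Ideal A) (K : Submodule A M) :
    colen (I • (⊤ : Submodule A (M ⧸ K))) = colen (K ⊔ I • (⊤ : Submodule A M)) := by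
  have hmap : (K ⊔ I • (⊤ : Submodule A M)).map K.mkQ = I • (⊤ : Submodule A (M ⧸ K)) := by
    rw [Submodule.map_sup, Submodule.mkQ_map_self, bot_sup_eq, Submodule.map_smul'',
      Submodule.map_top, Submodule.range_mkQ]
  have e : ((M ⧸ K) ⧸ (I • (⊤ : Submodule A (M ⧸ K)))) ≃ₗ[A] M ⧸ (K ⊔ I • (⊤ : Submodule A M)) :=
    (Submodule.quotEquivOfEq _ _ hmap.symm).trans
      (Submodule.quotientQuotientEquivQuotient K _ le_sup_left)
  exact e.length_eq

end Groth.Agent.H17.HS
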