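import Groth.Agent.H17.HS.Samuel

/-!
# Explicit binomial bounds for Hilbert and Samuel functions
-/

set_option autoImplicit false

namespace Groth.Agent.H17.HS

variable {A : Type*} [CommRing A]
variable {M : Type*} [AddCommGroup M] [Module A M]

/-- Binomial bound for Hilbert functions of subquotient sequences generated in degree zero. -/
theorem hilbert_bound {t : ℕ} (x : Fin t → A) :
    ∀ (s : ℕ), s ≤ t → ∀ (U V : ℕ → Submodule A M),
    (∀ n, V n ≤ U n) →
    (∀ i n, (U n).map (LinearMap.lsmul A M (x i)) ≤ U (n + 1)) →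
    (∀ i n, (V n).map (LinearMap.lsmul A M (x i)) ≤ V (n + 1)) →
    (∀ i : Fin t, s ≤ i.val → ∀ n, (U n).map (LinearMap.lsmul A M (x i)) ≤ V (n + 1)) →
    (∀ n, U (n + 1) ≤ V (n + 1) ⊔ Ideal.span (Set.range x) • U n) →
    (∀ n, colen (V n) ≠ ⊤) →
    ∀ n, ((cn (V n) : ℤ) - cn (U n)) ≤
      ((n + s - 1).choose n : ℤ) * ((cn (V 0) : ℤ) - cn (U 0)) := by
  intro s
  induction s with
  | zero =>
    intro _ U V hVU hU hV hc hg hfin n
    cases n with
    | zero => simp
    | succ k =>
      have h1 : U (k + 1) ≤ V (k + 1) := by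
        refine (hg k).trans (sup_le le_rfl ?_)
        exact span_range_smul_le (fun i => hc i (Nat.zero_le _) k)
      have h2 : V (k + 1) = U (k + 1) := le_antisymm (hVU _) h1
      rw [h2, sub_self]
      have h3 : (k + 1 + 0 - 1).choose (k + 1) = 0 := by
        have : k + 1 + 0 - 1 = k := by omega
        rw [this, Nat.choose_succ_self]
      rw [h3]
      simp
  | succ s ih =>
    intro hs U V hVU hU hV hc hg hfin
    let i₀ : Fin t := ⟨s, by omega⟩
    set φ : M →ₗ[A] M := LinearMap.lsmul A M (x i₀) with hφ
    have hcomm : ∀ (i : Fin t) (m : M),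
        φ (LinearMap.lsmul A M (x i) m) = LinearMap.lsmul A M (x i) (φ m) := by
      intro i m
      show x i₀ • (x i • m) = x i • (x i₀ • m)
      exact smul_comm _ _ _
    let V'' : ℕ → Submodule A M := fun n =>
      @Nat.rec (fun _ => Submodule A M) (V 0) (fun k _ => V (k + 1) ⊔ (U k).map φ) n
    have hV''0 : V'' 0 = V 0 := rfl
    have hV''s : ∀ k, V'' (k + 1) = V (k + 1) ⊔ (U k).map φ := fun k => rfl
    have hVV'' : ∀ n, V n ≤ V'' n := by
      intro n
      cases n with
      | zero => exact le_rfl
      | succ k => rw [hV''s]; exact le_sup_left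
    have ihL := ih (by omega) U V''
      (by
        intro n
        cases n with
        | zero => rw [hV''0]; exact hVU 0
        | succ k => rw [hV''s]; exact sup_le (hVU (k + 1)) (hU i₀ k))
      hU
      (by
        intro i n
        cases n with
        | zero =>
          rw [hV''0, hV''s]
          exact (hV i 0).trans le_sup_left
        | succ k =>
          rw [hV''s, hV''s, Submodule.map_sup]
          refine sup_le ((hV i (k + 1)).trans le_sup_left) ?_
          rintro _ ⟨_, ⟨m, hm, rfl⟩, rfl⟩
          refine Submodule.mem_sup_right ?_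
          rw [← hcomm]
          exact Submodule.mem_map_of_mem (hU i k (Submodule.mem_map_of_mem hm)))
      (by
        intro i hi n
        rw [hV''s]
        rcases Nat.eq_or_lt_of_le hi with h | h
        · have hi0 : i = i₀ := Fin.ext h.symm
          rw [hi0]
          exact le_sup_right
        · exact (hc i h n).trans le_sup_left)
      (fun n => (hg n).trans (sup_le_sup_right (hVV'' (n + 1)) _))
      (fun n => colen_ne_top_of_le (hVV'' n) (hfin n))
    have hUfin : ∀ n, colen (U n) ≠ ⊤ := fun n => colen_ne_top_of_le (hVU n) (hfin n)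
    have hstep : ∀ n, ((cn (V (n + 1)) : ℤ) - cn (U (n + 1))) ≤
        ((cn (V n) : ℤ) - cn (U n)) + ((cn (V'' (n + 1)) : ℤ) - cn (U (n + 1))) := by
      intro n
      have h3 := cn_inf_comap_add φ (U n) (V (n + 1)) (hUfin n) (hfin (n + 1))
      have h3' : (cn (U n ⊓ (V (n + 1)).comap φ) : ℤ) + cn (V (n + 1) ⊔ (U n).map φ) =
          cn (U n) + cn (V (n + 1)) := by exact_mod_cast h3
      have h4 : cn (U n ⊓ (V (n + 1)).comap φ) ≤ cn (V n) :=
        cn_le_of_le (le_inf (hVU n) (Submodule.map_le_iff_le_comap.mp (hV i₀ n))) (hfin n)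
      have h4' : (cn (U n ⊓ (V (n + 1)).comap φ) : ℤ) ≤ cn (V n) := by exact_mod_cast h4
      rw [hV''s]
      linarith
    intro n
    induction n with
    | zero => simp
    | succ n ihn =>
      have h1 := hstep n
      have h2 := ihL (n + 1)
      rw [hV''0] at h2
      have hpascal : ((n + 1 + (s + 1) - 1).choose (n + 1) : ℤ) =
          ((n + (s + 1) - 1).choose n : ℤ) + ((n + 1 + s - 1).choose (n + 1) : ℤ) := by
        have e1 : n + 1 + (s + 1) - 1 = (n + s) + 1 := by omega
        have e2 : n + (s + 1) - 1 = n + s := by omega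
        have e3 : n + 1 + s - 1 = n + s := by omega
        rw [e1, e2, e3, Nat.choose_succ_succ]
        push_cast
        ring
      rw [hpascal, add_mul]
      linarith

theorem colen_top : colen (⊤ : Submodule A M) = 0 := by
  unfold colen
  exact Module.length_eq_zero_iff.mpr (Submodule.Quotient.subsingleton_iff.mpr rfl)

/-- Binomial bound on the Samuel function: `ℓ(N/IⁿN) ≤ C(n+d', d'+1) ℓ(N/IN)` for `I` generated
by `d'+1` elements. -/
theorem samuel_le_choose_mul {N : Type*} [AddCommGroup N] [Module A N] {d' : ℕ}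
    (x : Fin (d' + 1) → A)
    (hfin : ∀ n, colen (Ideal.span (Set.range x) ^ n • (⊤ : Submodule A N)) ≠ ⊤) (n : ℕ) :
    samuel (Ideal.span (Set.range x)) N n ≤
      (n + d').choose (d' + 1) * samuel (Ideal.span (Set.range x)) N 1 := by
  have hstep : ∀ n, Ideal.span (Set.range x) • (Ideal.span (Set.range x) ^ n •
      (⊤ : Submodule A N)) = Ideal.span (Set.range x) ^ (n + 1) • (⊤ : Submodule A N) := by
    intro n
    rw [← mul_smul, ← pow_succ']
  have hb := hilbert_bound x (d' + 1) le_rfl
    (fun n => Ideal.span (Set.range x) ^ n • (⊤ : Submodule A N))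
    (fun n => Ideal.span (Set.range x) ^ (n + 1) • (⊤ : Submodule A N))
    (fun n => Submodule.smul_mono_left (Ideal.pow_le_pow_right (Nat.le_succ n)))
    (fun i n => by
      show _ ≤ Ideal.span (Set.range x) ^ (n + 1) • (⊤ : Submodule A N)
      rw [← hstep n]
      exact map_lsmul_le_smul x i _)
    (fun i n => by
      show _ ≤ Ideal.span (Set.range x) ^ (n + 1 + 1) • (⊤ : Submodule A N)
      rw [← hstep (n + 1)]
      exact map_lsmul_le_smul x i _)
    (fun i hi n => absurd i.2 (not_lt.mpr hi))
    (fun n => by
      show Ideal.span (Set.range x) ^ (n + 1) • (⊤ : Submodule A N) ≤ _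
      rw [← hstep n]
      exact le_sup_right)
    (fun n => hfin (n + 1))
  have h0 : samuel (Ideal.span (Set.range x)) N 0 = 0 := by
    unfold samuel cn
    rw [pow_zero, Ideal.one_eq_top, Submodule.top_smul, colen_top]
    rfl
  have hb' : ∀ n, (samuel (Ideal.span (Set.range x)) N (n + 1) : ℤ) -
      samuel (Ideal.span (Set.range x)) N n ≤
      ((n + d').choose n : ℤ) * samuel (Ideal.span (Set.range x)) N 1 := by
    intro n
    have h1 := hb n
    have e1 : n + (d' + 1) - 1 = n + d' := by omega
    rw [e1] at h1
    have h2 : (cn (Ideal.span (Set.range x) ^ 0 • (⊤ : Submodule A N)) : ℤ) = 0 := by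
      exact_mod_cast h0
    simp only [zero_add] at h1
    rw [h2, sub_zero] at h1
    exact h1
  have key : (samuel (Ideal.span (Set.range x)) N n : ℤ) ≤
      ((n + d').choose (d' + 1) : ℤ) * samuel (Ideal.span (Set.range x)) N 1 := by
    induction n with
    | zero =>
      rw [h0]
      positivity
    | succ n ihn =>
      have h1 := hb' n
      have hp : ((n + 1 + d').choose (d' + 1) : ℤ) =
          ((n + d').choose n : ℤ) + ((n + d').choose (d' + 1) : ℤ) := by
        have e1 : n + 1 + d' = (n + d') + 1 := by omega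
        rw [e1, Nat.choose_succ_succ, Nat.choose_symm_add]
        push_cast
        ring
      rw [hp, add_mul]
      linarith
  exact_mod_cast key

end Groth.Agent.H17.HS
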