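import Groth.Agent.H17.HS.Assoc

/-!
# Samuel multiplicities: existence of the limit, integrality, positivity, and the bound by the
colength of a parameter ideal
-/

set_option autoImplicit false

namespace Groth.Agent.H17.HS

open Polynomial Filter Topology Finset
open scoped Nat

universe u

section Poly

/-- `P(x) / x^d → coeff_d P` when `deg P ≤ d`. -/
theorem tendsto_eval_div_pow (PR : ℝ[X]) (d : ℕ) (hd : PR.natDegree ≤ d) :
    Tendsto (fun x : ℝ => PR.eval x / x ^ d) atTop (𝓝 (PR.coeff d)) := by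
  obtain ⟨QR, hQR⟩ : ∃ QR : ℝ[X], QR = PR - C (PR.coeff d) * X ^ d := ⟨_, rfl⟩
  have hdeg : QR.degree < ((X : ℝ[X]) ^ d).degree := by
    rw [degree_X_pow, degree_lt_iff_coeff_zero]
    intro m hm
    rw [hQR, coeff_sub, coeff_C_mul, coeff_X_pow]
    rcases Nat.eq_or_lt_of_le hm with h | h
    · subst h
      simp
    · rw [if_neg (by omega), mul_zero, sub_zero]
      exact coeff_eq_zero_of_natDegree_lt (lt_of_le_of_lt hd h)
  have h1 := div_tendsto_atTop_zero_of_degree_lt QR (X ^ d) hdeg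
  have h2 : Tendsto (fun x : ℝ => PR.coeff d + QR.eval x / (X ^ d : ℝ[X]).eval x) atTop
      (𝓝 (PR.coeff d + 0)) := tendsto_const_nhds.add h1
  rw [add_zero] at h2
  refine h2.congr' ?_
  filter_upwards [eventually_gt_atTop 0] with x hx
  have hx0 : x ^ d ≠ 0 := pow_ne_zero _ hx.ne'
  rw [hQR]
  simp only [eval_sub, eval_mul, eval_C, eval_pow, eval_X]
  rw [sub_div, mul_div_cancel_right₀ _ hx0]
  ring

/-- An eventually integer-valued rational polynomial of degree `≤ d` has `d! · coeff_d ∈ ℤ`. -/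
theorem exists_int_eq_factorial_mul_coeff (P : ℚ[X]) (d : ℕ) (hd : P.natDegree ≤ d) (K : ℕ)
    (hK : ∀ n : ℕ, K ≤ n → ∃ z : ℤ, P.eval (n : ℚ) = z) :
    ∃ z : ℤ, (d.factorial : ℚ) * P.coeff d = z := by
  rcases Nat.lt_or_ge P.natDegree d with hlt | hge
  · exact ⟨0, by rw [coeff_eq_zero_of_natDegree_lt hlt]; simp⟩
  · have hdeg : P.natDegree = d := le_antisymm hd hge
    have h1 := congrFun (P.fwdDiff_iter_degree_eq_factorial) (K : ℚ)
    rw [fwdDiff_iter_eq_sum_shift, hdeg] at h1
    have hint : ∀ k ∈ range (d + 1), ∃ z : ℤ,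
        ((-1 : ℤ) ^ (d - k) * (d.choose k : ℤ)) • P.eval ((K : ℚ) + k • (1 : ℚ)) = z := by
      intro k _
      obtain ⟨z, hz⟩ := hK (K + k) (Nat.le_add_right K k)
      refine ⟨(-1 : ℤ) ^ (d - k) * (d.choose k : ℤ) * z, ?_⟩
      have : ((K : ℚ) + k • (1 : ℚ)) = ((K + k : ℕ) : ℚ) := by simp
      rw [this, hz]
      simp
    choose! zf hzf using hint
    refine ⟨∑ k ∈ range (d + 1), zf k, ?_⟩
    have h2 : (d.factorial : ℚ) * P.coeff d = P.leadingCoeff * (d.factorial : ℚ) := by
      rw [leadingCoeff, hdeg, mul_comm]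
    rw [h2]
    have h3 : (P.leadingCoeff • ((d ! : ℕ) : ℚ → ℚ)) (K : ℚ) =
        P.leadingCoeff * (d.factorial : ℚ) := by
      simp
    rw [← h3, ← h1, Int.cast_sum]
    exact Finset.sum_congr rfl (fun k hk => hzf k hk)

end Poly

section General

variable {A : Type u} [CommRing A] [IsNoetherianRing A]

/-- The normalized Samuel function converges to `d! · coeff_d` of the Samuel polynomial. -/
theorem tendsto_samuel_of_natDegree_le {I : Ideal A} {N : Type u} [AddCommGroup N] [Module A N]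
    {P : ℚ[X]} (hP : HasSamuelPoly I N P) {d : ℕ} (hd : P.natDegree ≤ d) :
    Tendsto (fun t : ℕ => (d.factorial : ℝ) * (samuel I N t : ℝ) / (t : ℝ) ^ d) atTop
      (𝓝 ((d.factorial : ℝ) * ((P.coeff d : ℚ) : ℝ))) := by
  obtain ⟨K, hK⟩ := hP
  obtain ⟨PR, hPRdef⟩ : ∃ PR : ℝ[X], PR = P.map (algebraMap ℚ ℝ) := ⟨_, rfl⟩
  have hPR : ∀ n, K ≤ n → (samuel I N n : ℝ) = PR.eval (n : ℝ) := by
    intro n hn
    rw [hPRdef, eval_natCast_map, ← hK n hn]
    simp
  have hPRdeg : PR.natDegree ≤ d := by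
    rw [hPRdef]
    exact natDegree_map_le.trans hd
  have hcoeff : PR.coeff d = ((P.coeff d : ℚ) : ℝ) := by
    rw [hPRdef, coeff_map]
    simp
  have h1 := (tendsto_eval_div_pow PR d hPRdeg).comp (tendsto_natCast_atTop_atTop (R := ℝ))
  have h2 := h1.const_mul (d.factorial : ℝ)
  rw [hcoeff] at h2
  refine h2.congr' ?_
  filter_upwards [eventually_ge_atTop K] with n hn
  simp only [Function.comp_apply]
  rw [hPR n hn, mul_div_assoc]

/-- For an ideal generated by `d` elements, the normalized limit of the Samuel function is at most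
the colength `ℓ(N / I N)`. -/
theorem limit_le_samuel_one {N : Type u} [AddCommGroup N] [Module A N] {d : ℕ} (g : Fin d → A)
    (hfin : ∀ n, colen (Ideal.span (Set.range g) ^ n • (⊤ : Submodule A N)) ≠ ⊤) (L : ℝ)
    (hL : Tendsto (fun n : ℕ => (d.factorial : ℝ) *
      (samuel (Ideal.span (Set.range g)) N n : ℝ) / (n : ℝ) ^ d) atTop (𝓝 L)) :
    L ≤ (samuel (Ideal.span (Set.range g)) N 1 : ℝ) := by
  rcases Nat.eq_zero_or_pos d with hd0 | hdpos
  · subst hd0
    have hIbot : Ideal.span (Set.range g) = ⊥ := by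
      rw [Set.range_eq_empty, Ideal.span_empty]
    have hconst : ∀ n, 1 ≤ n → samuel (Ideal.span (Set.range g)) N n =
        samuel (Ideal.span (Set.range g)) N 1 := by
      intro n hn
      unfold samuel
      rw [hIbot, ← Ideal.zero_eq_bot, zero_pow (by omega), zero_pow one_ne_zero]
    have hlim : Tendsto (fun n : ℕ => ((0 : ℕ).factorial : ℝ) *
        (samuel (Ideal.span (Set.range g)) N n : ℝ) / (n : ℝ) ^ 0)
        atTop (𝓝 (samuel (Ideal.span (Set.range g)) N 1 : ℝ)) := by
      refine tendsto_const_nhds.congr' ?_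
      filter_upwards [eventually_ge_atTop 1] with n hn
      rw [hconst n hn]
      simp
    exact (tendsto_nhds_unique hL hlim).le
  · obtain ⟨d', rfl⟩ : ∃ d', d = d' + 1 := ⟨d - 1, by omega⟩
    obtain ⟨h, hh⟩ : ∃ h : ℕ, h = samuel (Ideal.span (Set.range g)) N 1 := ⟨_, rfl⟩
    rw [← hh]
    have hbound : ∀ n, samuel (Ideal.span (Set.range g)) N n ≤ (n + d').choose (d' + 1) * h := by
      intro n
      rw [hh]
      exact samuel_le_choose_mul (N := N) g hfin n
    have hu : Tendsto (fun n : ℕ => (((n + d' : ℕ) : ℝ) / (n : ℝ)) ^ (d' + 1) * (h : ℝ)) atTop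
        (𝓝 (h : ℝ)) := by
      have ha : Tendsto (fun n : ℕ => (1 : ℝ) + (d' : ℝ) / (n : ℝ)) atTop (𝓝 (1 + 0)) :=
        tendsto_const_nhds.add (tendsto_const_div_atTop_nhds_zero_nat (d' : ℝ))
      have hb : Tendsto (fun n : ℕ => (((n + d' : ℕ) : ℝ) / (n : ℝ))) atTop (𝓝 1) := by
        rw [add_zero] at ha
        refine ha.congr' ?_
        filter_upwards [eventually_ge_atTop 1] with n hn
        have hn0 : (n : ℝ) ≠ 0 := Nat.cast_ne_zero.mpr (by omega)
        push_cast
        field_simp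
      have hc := (hb.pow (d' + 1)).mul_const (h : ℝ)
      simpa using hc
    refine le_of_tendsto_of_tendsto hL hu ?_
    filter_upwards [eventually_ge_atTop 1] with n hn
    have hn0 : (0 : ℝ) < (n : ℝ) := Nat.cast_pos.mpr (by omega)
    have h1 : (samuel (Ideal.span (Set.range g)) N n : ℝ) ≤
        ((n + d').choose (d' + 1) : ℝ) * (h : ℝ) := by
      exact_mod_cast hbound n
    have h2 : (((n + d').choose (d' + 1) : ℕ) : ℝ) ≤
        (((n + d' : ℕ) : ℝ)) ^ (d' + 1) / ((d' + 1).factorial : ℝ) :=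
      Nat.choose_le_pow_div (d' + 1) (n + d')
    have hfpos : (0 : ℝ) < ((d' + 1).factorial : ℝ) := Nat.cast_pos.mpr (Nat.factorial_pos _)
    have h3 : ((d' + 1).factorial : ℝ) * (((n + d').choose (d' + 1) : ℕ) : ℝ) ≤
        (((n + d' : ℕ) : ℝ)) ^ (d' + 1) := by
      have := mul_le_mul_of_nonneg_left h2 hfpos.le
      rwa [mul_div_cancel₀ _ hfpos.ne'] at this
    rw [div_pow, div_mul_eq_mul_div]
    apply div_le_div_of_nonneg_right _ (by positivity)
    calc ((d' + 1).factorial : ℝ) * (samuel (Ideal.span (Set.range g)) N n : ℝ)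
        ≤ ((d' + 1).factorial : ℝ) * (((n + d').choose (d' + 1) : ℝ) * (h : ℝ)) := by gcongr
      _ = (((d' + 1).factorial : ℝ) * ((n + d').choose (d' + 1) : ℝ)) * (h : ℝ) := by ring
      _ ≤ (((n + d' : ℕ) : ℝ)) ^ (d' + 1) * (h : ℝ) := by gcongr

end General

section Local

variable {A : Type u} [CommRing A] [IsNoetherianRing A] [IsLocalRing A]

/-- In top dimension the multiplicity `d! · coeff_d` is positive. -/
theorem factorial_mul_coeff_pos {I : Ideal A} (hIm : I ≤ IsLocalRing.maximalIdeal A) {k : ℕ}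
    (hk : IsLocalRing.maximalIdeal A ^ k ≤ I) (N : Type u) [AddCommGroup N] [Module A N]
    [Module.Finite A N] [Nontrivial N] {d : ℕ} (hd : Module.supportDim A N = d) {P : ℚ[X]}
    (hP : HasSamuelPoly I N P) (hPd : P.natDegree ≤ d) :
    0 < (d.factorial : ℝ) * ((P.coeff d : ℚ) : ℝ) := by
  haveI := finite_maximalSpectrum_of_isLocalRing (A := A)
  have hlim := tendsto_samuel_of_natDegree_le hP hPd
  have hge : 0 ≤ (d.factorial : ℝ) * ((P.coeff d : ℚ) : ℝ) :=
    ge_of_tendsto' hlim (fun t => by positivity)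
  obtain ⟨K, hK⟩ := hP
  obtain ⟨Pm, Km, hKm⟩ := exists_samuelPoly_jacobson (A := A) N
  have hjac : Ring.jacobson A = IsLocalRing.maximalIdeal A :=
    IsLocalRing.ringJacobson_eq_maximalIdeal A
  have h1 : d ≤ Pm.natDegree :=
    le_natDegree_of_le_supportDim d N Pm ⟨Km, hKm⟩ (le_of_eq hd.symm)
  have hfin := colen_pow_ne_top_of_primary hk N
  have h2 : Pm.natDegree ≤ P.natDegree := by
    refine natDegree_le_of_eventually_le (N := max K Km) ?_ ?_
    · intro n hn
      rw [← hKm n (le_trans (le_max_right _ _) hn)]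
      exact Nat.cast_nonneg _
    · intro n hn
      rw [← hKm n (le_trans (le_max_right _ _) hn), ← hK n (le_trans (le_max_left _ _) hn)]
      have h3 : samuel (Ring.jacobson A) N n ≤ samuel I N n := by
        refine cn_le_of_le ?_ (hfin n)
        rw [hjac]
        exact Submodule.smul_mono_left (Ideal.pow_right_mono hIm n)
      exact_mod_cast h3
  have hdeg : P.natDegree = d := le_antisymm hPd (h1.trans h2)
  have hP0 : P ≠ 0 := by
    intro h0
    have h4 := hK (max K 1) (le_max_left _ _)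
    rw [h0, eval_zero] at h4
    have h5 : 0 < samuel I N (max K 1) :=
      samuel_pos (hIm.trans (IsLocalRing.maximalIdeal_le_jacobson _)) (max K 1)
        (lt_of_lt_of_le Nat.one_pos (le_max_right K 1)).ne' (hfin _)
    have h6 : (samuel I N (max K 1) : ℚ) ≠ 0 := by exact_mod_cast h5.ne'
    exact h6 h4
  have hc : P.coeff d ≠ 0 := by
    rw [← hdeg]
    exact leadingCoeff_ne_zero.mpr hP0
  have hne : (d.factorial : ℝ) * ((P.coeff d : ℚ) : ℝ) ≠ 0 :=
    mul_ne_zero (by positivity) (by exact_mod_cast hc)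
  exact lt_of_le_of_ne hge hne.symm

end Local

end Groth.Agent.H17.HS
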