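import Groth.Agent.H17.HS.Len
import Groth.Agent.H17.HS.PolyInt

/-!
# The Hilbert-type induction for sequences of pairs of submodules
-/

set_option autoImplicit false

namespace Groth.Agent.H17.HS

open Polynomial

variable {A : Type*} [CommRing A]
variable {M : Type*} [AddCommGroup M] [Module A M]

theorem span_range_smul_le {t : ℕ} {x : Fin t → A} {W W' : Submodule A M}
    (h : ∀ i, W.map (LinearMap.lsmul A M (x i)) ≤ W') :
    Ideal.span (Set.range x) • W ≤ W' := by
  have hle : Ideal.span (Set.range x) ≤ W'.colon (W : Set M) := by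
    rw [Ideal.span_le]
    rintro _ ⟨i, rfl⟩
    exact Submodule.mem_colon.mpr fun p hp => h i (Submodule.mem_map_of_mem hp)
  exact Submodule.smul_le.mpr fun r hr n hn => Submodule.mem_colon.mp (hle hr) n hn

theorem map_lsmul_le_smul {t : ℕ} (x : Fin t → A) (i : Fin t) (W : Submodule A M) :
    W.map (LinearMap.lsmul A M (x i)) ≤ Ideal.span (Set.range x) • W := by
  rintro _ ⟨m, hm, rfl⟩
  exact Submodule.smul_mem_smul (Ideal.subset_span ⟨i, rfl⟩) hm

variable [IsNoetherianRing A] [Module.Finite A M]

/-- Main induction: Hilbert functions of subquotient sequences on which only the first `s`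
generators act nontrivially are eventually polynomial of degree `< s`. -/
theorem polyLike_pairs {t : ℕ} (x : Fin t → A) :
    ∀ (s : ℕ), s ≤ t → ∀ (U V : ℕ → Submodule A M),
    (∀ n, V n ≤ U n) → (∀ n, U (n + 1) ≤ V n) →
    (∀ i n, (U n).map (LinearMap.lsmul A M (x i)) ≤ U (n + 1)) →
    (∀ i n, (V n).map (LinearMap.lsmul A M (x i)) ≤ V (n + 1)) →
    (∀ i : Fin t, s ≤ i.val → ∀ n, (U n).map (LinearMap.lsmul A M (x i)) ≤ V (n + 1)) →
    (∃ F : (Ideal.span (Set.range x)).Filtration M, F.Stable ∧ ∀ n, U n ≤ F.N n) →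
    (∀ n, colen (V n) ≠ ⊤) →
    ∃ P : ℚ[X], (∀ m, s ≤ m → P.coeff m = 0) ∧
      ∃ N, ∀ n, N ≤ n → ((cn (V n) : ℚ) - cn (U n)) = P.eval (n : ℚ) := by
  intro s
  induction s with
  | zero =>
    intro _ U V hVU hUV hU hV hc hF hfin
    obtain ⟨F, hFs, hUF⟩ := hF
    let FU : (Ideal.span (Set.range x)).Filtration M :=
      { N := U
        mono := fun n => (hUV n).trans (hVU n)
        smul_le := fun n => span_range_smul_le (fun i => hU i n) }
    have hFU : FU.Stable := hFs.of_le (show FU ≤ F from fun n => hUF n)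
    obtain ⟨n₀, hn₀⟩ := hFU
    refine ⟨0, fun m _ => by simp, n₀ + 1, fun n hn => ?_⟩
    obtain ⟨k, rfl⟩ : ∃ k, n = k + 1 := ⟨n - 1, by omega⟩
    have h1 : U (k + 1) = Ideal.span (Set.range x) • U k := (hn₀ k (by omega)).symm
    have h2 : U (k + 1) ≤ V (k + 1) := by
      rw [h1]
      exact span_range_smul_le (fun i => hc i (Nat.zero_le _) k)
    have h3 : V (k + 1) = U (k + 1) := le_antisymm (hVU _) h2
    rw [h3]
    simp
  | succ s ih =>
    intro hs U V hVU hUV hU hV hc hF hfin
    obtain ⟨F, hFs, hUF⟩ := hF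
    let i₀ : Fin t := ⟨s, by omega⟩
    set φ : M →ₗ[A] M := LinearMap.lsmul A M (x i₀) with hφ
    have hcomm : ∀ (i : Fin t) (m : M),
        φ (LinearMap.lsmul A M (x i) m) = LinearMap.lsmul A M (x i) (φ m) := by
      intro i m
      show x i₀ • (x i • m) = x i • (x i₀ • m)
      exact smul_comm _ _ _
    -- kernel pair
    obtain ⟨P', hP', N', hN'⟩ := ih (by omega) (fun n => U n ⊓ (V (n + 1)).comap φ) V
      (fun n => le_inf (hVU n) (Submodule.map_le_iff_le_comap.mp (hV i₀ n)))
      (fun n => inf_le_left.trans (hUV n))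
      (by
        intro i n
        rintro _ ⟨m, hm, rfl⟩
        refine ⟨hU i n (Submodule.mem_map_of_mem hm.1), ?_⟩
        have h1 : φ m ∈ V (n + 1) := hm.2
        have h2 := hV i (n + 1) (Submodule.mem_map_of_mem h1)
        show φ (LinearMap.lsmul A M (x i) m) ∈ V (n + 1 + 1)
        rw [hcomm]
        exact h2)
      hV
      (by
        intro i hi n
        rcases Nat.eq_or_lt_of_le hi with h | h
        · have hi0 : i = i₀ := Fin.ext h.symm
          rw [hi0]
          exact Submodule.map_le_iff_le_comap.mpr inf_le_right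
        · exact (Submodule.map_mono inf_le_left).trans (hc i h n))
      ⟨F, hFs, fun n => inf_le_left.trans (hUF n)⟩
      hfin
    -- cokernel pair
    obtain ⟨P'', hP'', N'', hN''⟩ := ih (by omega) (fun n => U (n + 1))
      (fun n => V (n + 1) ⊔ (U n).map φ)
      (fun n => sup_le (hVU (n + 1)) (hU i₀ n))
      (fun n => (hUV (n + 1)).trans le_sup_left)
      (fun i n => hU i (n + 1))
      (by
        intro i n
        rw [Submodule.map_sup]
        refine sup_le ((hV i (n + 1)).trans le_sup_left) ?_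
        rintro _ ⟨_, ⟨m, hm, rfl⟩, rfl⟩
        refine Submodule.mem_sup_right ?_
        rw [← hcomm]
        exact Submodule.mem_map_of_mem (hU i n (Submodule.mem_map_of_mem hm)))
      (by
        intro i hi n
        rcases Nat.eq_or_lt_of_le hi with h | h
        · have hi0 : i = i₀ := Fin.ext h.symm
          rw [hi0]
          exact le_sup_right
        · exact (hc i h (n + 1)).trans le_sup_left)
      ⟨F, hFs, fun n => ((hUV n).trans (hVU n)).trans (hUF n)⟩
      (fun n => colen_ne_top_of_le le_sup_left (hfin (n + 1)))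
    -- the difference equation
    have hUfin : ∀ n, colen (U n) ≠ ⊤ := fun n => colen_ne_top_of_le (hVU n) (hfin n)
    have key : ∀ n, max N' N'' ≤ n →
        ((cn (V (n + 1)) : ℚ) - cn (U (n + 1))) - ((cn (V n) : ℚ) - cn (U n)) =
          (P'' - P').eval (n : ℚ) := by
      intro n hn
      have h1 := hN' n (le_trans (le_max_left _ _) hn)
      have h2 := hN'' n (le_trans (le_max_right _ _) hn)
      have h3 := cn_inf_comap_add φ (U n) (V (n + 1)) (hUfin n) (hfin (n + 1))
      have h3' : (cn (U n ⊓ (V (n + 1)).comap φ) : ℚ) + cn (V (n + 1) ⊔ (U n).map φ) =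
          cn (U n) + cn (V (n + 1)) := by exact_mod_cast h3
      rw [eval_sub, ← h1, ← h2]
      linarith
    obtain ⟨P, hP, hPn⟩ := exists_poly_of_fwdDiff s (fun n => (cn (V n) : ℚ) - cn (U n))
      (P'' - P') (fun m hm => by rw [coeff_sub, hP' m hm, hP'' m hm, sub_zero]) (max N' N'') key
    exact ⟨P, hP, max N' N'', hPn⟩

end Groth.Agent.H17.HS
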